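import Cfsg.Agent.Lib.M23Gen.Scott
import Cfsg.Agent.Lib.M24Geom.OrderThree
import Cfsg.Agent.Lib.ThreeTransp.M24Involutions
import Cfsg.Agent.Lib.Compute.M24Action
import Cfsg.Prelude.Def_Spor_Mathieu

/-!
# Fixed points of elements of prime order in the Mathieu group of degree 23; the obstruction
-/

set_option autoImplicit false

namespace Cfsg.Agent.Lib.M23Gen

open Cfsg Equiv Module Cfsg.Agent.Lib.Compute Cfsg.Agent.Lib.M24Geom

/-- The fixed points. -/
def fixSet (x : Perm GolayPt) : Finset GolayPt := Finset.univ.filter fun q => x q = q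

theorem fix_mod {x : Perm GolayPt} {p : ℕ} (hp : p.Prime) (hx : orderOf x = p) :
    (fixSet x).card % p = 24 % p := by
  obtain ⟨k, hk⟩ := Equiv.Perm.cycleType_prime_order (σ := x) (hx ▸ hp)
  have hs := x.sum_cycleType
  rw [hk, Multiset.sum_replicate, smul_eq_mul, hx] at hs
  have e : (fixSet x).card + x.support.card = 24 := by
    rw [fixSet, Perm.support, Finset.card_filter_add_card_filter_not, Finset.card_univ]; decide
  rw [← hs] at e
  conv_rhs => rw [← e, Nat.add_mul_mod_self_right]

theorem fix_two {x : Perm GolayPt} (hx : x ∈ M24) (hn : x none = none) (h : orderOf x = 2) :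
    8 ≤ (fixSet x).card := by
  have h2 : x * x = 1 := by rw [← sq, ← h, pow_orderOf_eq_one]
  obtain ⟨k, -, he | he⟩ := ThreeTransp.involution_conj hx h2 fun e => by simp [e] at h
  · have h8 : (Finset.univ.filter fun q => ThreeTransp.rep8 q = q).card = 8 := by
      rw [show (Finset.univ.filter fun q => ThreeTransp.rep8 q = q) = setOf24 _ from
        Finset.ext fun q => by simpa using ThreeTransp.rep8_fixed q]
      exact ThreeTransp.fixMask8_octad.2
    rw [← he, card_fixed_conj] at h8
    exact h8.ge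
  · exfalso
    refine ThreeTransp.rep0_fixed (k none) ?_
    rw [← he]
    simp [hn]

theorem fix_three {x : Perm GolayPt} (hx : x ∈ M24) (hn : x none = none) (h : orderOf x = 3) :
    6 ≤ (fixSet x).card := by
  obtain ⟨g, -, he | he⟩ := order_three_conj hx (h ▸ pow_orderOf_eq_one x) fun e => by simp [e] at h
  · have := card_fixed_six3
    rw [← he, card_fixed_conj] at this
    exact this.ge
  · have := card_fixed_free3
    rw [← he, card_fixed_conj, Finset.card_eq_zero] at this
    exfalso
    have hm : none ∈ (Finset.univ.filter fun q => x q = q) := Finset.mem_filter.2 ⟨Finset.mem_univ _, hn⟩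
    rw [this] at hm
    exact Finset.notMem_empty none hm

theorem moved_table (x : ↥Spor.M23) {p : ℕ} (hp : p.Prime) (h : orderOf x = p) :
    finrank ℚ (moved (x : Perm GolayPt)) ≤ 22 ∧ (p = 2 → finrank ℚ (moved (x : Perm GolayPt)) ≤ 8) ∧
    (p = 3 → finrank ℚ (moved (x : Perm GolayPt)) ≤ 12) ∧ (p = 5 → finrank ℚ (moved (x : Perm GolayPt)) ≤ 16) ∧
    (p = 7 → finrank ℚ (moved (x : Perm GolayPt)) ≤ 18) := by
  haveI := Fact.mk hp
  have ho : orderOf (x : Perm GolayPt) = p := by rw [Subgroup.orderOf_coe]; exact h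
  have hb := moved_bound ho
  rw [show (Finset.univ.filter fun a => (x : Perm GolayPt) a = a) = fixSet (x : Perm GolayPt) from rfl,
    show Fintype.card GolayPt = 24 by decide] at hb
  have hn : (x : Perm GolayPt) none = none := x.2.2
  have h1 : 1 ≤ (fixSet (x : Perm GolayPt)).card :=
    Finset.card_pos.2 ⟨none, Finset.mem_filter.2 ⟨Finset.mem_univ _, hn⟩⟩
  have hm := fix_mod hp ho
  refine ⟨?_, ?_, ?_, ?_, ?_⟩
  · by_contra hc
    push Not at hc
    obtain ⟨q, rfl⟩ : ∃ q, p = q + 1 := ⟨p - 1, by have := hp.one_lt; omega⟩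
    simp only [Nat.add_sub_cancel] at hb
    nlinarith
  · rintro rfl
    have := fix_two x.2.1 hn ho
    omega
  · rintro rfl
    have := fix_three x.2.1 hn ho
    omega
  · rintro rfl; omega
  · rintro rfl; omega

theorem fixedFun_le_two {x y : ↥Spor.M23} (h : Subgroup.closure ({x, y} : Set ↥Spor.M23) = ⊤) :
    finrank ℚ (fixedFun (x : Perm GolayPt) (y : Perm GolayPt)) ≤ 2 := by
  have hmem : ∀ g : ↥Spor.M23,
      (g : Perm GolayPt) ∈ Subgroup.closure ({(x : Perm GolayPt), (y : Perm GolayPt)} : Set (Perm GolayPt)) := by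
    intro g
    have hg : g ∈ Subgroup.closure ({x, y} : Set ↥Spor.M23) := h ▸ Subgroup.mem_top g
    have := Subgroup.mem_map_of_mem Spor.M23.subtype hg
    rw [MonoidHom.map_closure, Set.image_pair] at this
    exact this
  let E : ↥(fixedFun (x : Perm GolayPt) (y : Perm GolayPt)) →ₗ[ℚ] (Fin 2 → ℚ) :=
    (LinearMap.funLeft ℚ ℚ ![none, some 0]).comp (Submodule.subtype _)
  have hE : Function.Injective E := by
    intro v w e
    refine Subtype.ext (funext fun q => ?_)
    have e0 := congrFun e 0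
    have e1 := congrFun e 1
    change v.1 none = w.1 none at e0
    change v.1 (some 0) = w.1 (some 0) at e1
    rcases eq_or_ne q none with rfl | hq
    · exact e0
    have h2 : MulAction.IsMultiplyPretransitive ↥M24 GolayPt 2 :=
      haveI := Cfsg.Agent.Lib.Compute.M24_multiplyPretransitive
      MulAction.isMultiplyPretransitive_of_le (n := 5) (by norm_num) (by rw [Nat.card_eq_fintype_card]; decide)
    obtain ⟨g, g0, g1⟩ := MulAction.is_two_pretransitive_iff.1 h2
      (show (none : GolayPt) ≠ some 0 by simp) hq.symm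
    let g' : ↥Spor.M23 := ⟨g.1, g.2, g0⟩
    have hv := congrFun (fixed_closure (hmem g') v.2) (some 0)
    have hw := congrFun (fixed_closure (hmem g') w.2) (some 0)
    change v.1 ((g : Perm GolayPt) (some 0)) = v.1 (some 0) at hv
    change w.1 ((g : Perm GolayPt) (some 0)) = w.1 (some 0) at hw
    rw [show (g : Perm GolayPt) (some 0) = q from g1] at hv hw
    rw [hv, hw, e1]
  refine (LinearMap.finrank_le_finrank_of_injective hE).trans ?_
  rw [finrank_fintype_fun_eq_card, Fintype.card_fin]

theorem not_generated {p q r : ℕ} (hp : p.Prime) (hq : q.Prime) (hr : r.Prime) (hpq : p ≤ q) (hqr : q ≤ r)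
    (hbad : (p = 2 ∧ q = 3) ∨ (p = 2 ∧ q = 5 ∧ r = 5) ∨ (p = 2 ∧ q = 5 ∧ r = 7) ∨ (p = 3 ∧ q = 3 ∧ r ≤ 7))
    (x y z : ↥Spor.M23) (hx : orderOf x = p) (hy : orderOf y = q) (hz : orderOf z = r) (h1 : x * y * z = 1)
    (hgen : Subgroup.closure ({x, y} : Set ↥Spor.M23) = ⊤) : False := by
  have hs := scott (x := (x : Perm GolayPt)) (y := (y : Perm GolayPt)) (z := (z : Perm GolayPt))
    (congrArg Subtype.val h1) (fixedFun_le_two hgen)
  rw [show Fintype.card GolayPt = 24 by decide] at hs
  obtain ⟨ax, bx2, bx3, bx5, bx7⟩ := moved_table x hp hx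
  obtain ⟨ay, by2, by3, by5, by7⟩ := moved_table y hq hy
  obtain ⟨az, bz2, bz3, bz5, bz7⟩ := moved_table z hr hz
  rcases hbad with ⟨rfl, rfl⟩ | ⟨rfl, rfl, rfl⟩ | ⟨rfl, rfl, rfl⟩ | ⟨rfl, rfl, hr7⟩
  · have := bx2 rfl; have := by3 rfl; omega
  · have := bx2 rfl; have := by5 rfl; have := bz5 rfl; omega
  · have := bx2 rfl; have := by5 rfl; have := bz7 rfl; omega
  · have := bx3 rfl; have := by3 rfl
    interval_cases r
    all_goals first
      | (have := bz3 rfl; omega) | (have := bz5 rfl; omega) | (have := bz7 rfl; omega) | norm_num at hr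

end Cfsg.Agent.Lib.M23Gen
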