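import Mathlib

/-!
# Scott's inequality for permutations with product one
-/

set_option autoImplicit false

namespace Cfsg.Agent.Lib.M23Gen

open Equiv Module

variable {α : Type*}

/-- A permutation acting on functions. -/
def permLin (σ : Perm α) : (α → ℚ) →ₗ[ℚ] (α → ℚ) := LinearMap.funLeft ℚ ℚ σ

theorem permLin_apply (σ : Perm α) (v : α → ℚ) (a : α) : permLin σ v a = v (σ a) := rfl

theorem permLin_mul (σ τ : Perm α) (v : α → ℚ) : permLin (σ * τ) v = permLin τ (permLin σ v) := rfl

theorem permLin_one (v : α → ℚ) : permLin (1 : Perm α) v = v := rfl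

/-- The commutator space of a permutation. -/
def moved (σ : Perm α) : Submodule ℚ (α → ℚ) := LinearMap.range (permLin σ - LinearMap.id)

theorem sub_mem_moved (σ : Perm α) (v : α → ℚ) : permLin σ v - v ∈ moved σ := ⟨v, rfl⟩

theorem sub_mem_of_closure {x y g : Perm α} (hg : g ∈ Subgroup.closure ({x, y} : Set (Perm α))) :
    ∀ v, permLin g v - v ∈ moved x ⊔ moved y := by
  induction hg using Subgroup.closure_induction with
  | mem g h =>
    intro v
    rcases h with rfl | rfl
    · exact Submodule.mem_sup_left (sub_mem_moved _ v)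
    · exact Submodule.mem_sup_right (sub_mem_moved _ v)
  | one => intro v; simp [permLin_one]
  | mul g h _ _ hg hh =>
    intro v
    have e : permLin (g * h) v - v = (permLin h (permLin g v) - permLin g v) + (permLin g v - v) := by
      rw [permLin_mul]; abel
    rw [e]; exact add_mem (hh _) (hg v)
  | inv g _ hg =>
    intro v
    have e : permLin g⁻¹ v - v = -(permLin g (permLin g⁻¹ v) - permLin g⁻¹ v) := by
      rw [← permLin_mul, inv_mul_cancel, permLin_one]; abel
    rw [e]; exact neg_mem (hg _)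

/-- The common fixed functions. -/
def fixedFun (x y : Perm α) : Submodule ℚ (α → ℚ) :=
  LinearMap.ker (permLin x - LinearMap.id) ⊓ LinearMap.ker (permLin y - LinearMap.id)

theorem mem_fixedFun {x y : Perm α} {v : α → ℚ} :
    v ∈ fixedFun x y ↔ permLin x v = v ∧ permLin y v = v := by
  simp [fixedFun, sub_eq_zero]

theorem fixed_closure {x y g : Perm α} (hg : g ∈ Subgroup.closure ({x, y} : Set (Perm α))) {v : α → ℚ}
    (hv : v ∈ fixedFun x y) : permLin g v = v := by
  induction hg using Subgroup.closure_induction with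
  | mem g h =>
    rcases h with rfl | rfl
    · exact (mem_fixedFun.1 hv).1
    · exact (mem_fixedFun.1 hv).2
  | one => exact permLin_one v
  | mul g h _ _ hg hh => rw [permLin_mul, hg, hh]
  | inv g _ hg =>
    conv_lhs => rw [← hg]
    rw [← permLin_mul, mul_inv_cancel, permLin_one]

variable [Fintype α] [DecidableEq α]

theorem sup_fixedFun (x y : Perm α) : (moved x ⊔ moved y) ⊔ fixedFun x y = ⊤ := by
  classical
  rw [eq_top_iff]
  intro v _
  set G := Subgroup.closure ({x, y} : Set (Perm α))
  set a : α → ℚ := ∑ g : ↥G, permLin (g : Perm α) v with ha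
  have hfix : ∀ h : ↥G, permLin (h : Perm α) a = a := fun h => by
    rw [ha, map_sum]
    exact Fintype.sum_equiv (Equiv.mulRight h) _ _ fun g => rfl
  have hn : (Fintype.card ↥G : ℚ) ≠ 0 := Nat.cast_ne_zero.2 Fintype.card_ne_zero
  have hd : (∑ g : ↥G, (permLin (g : Perm α) v - v)) ∈ moved x ⊔ moved y :=
    Submodule.sum_mem _ fun g _ => sub_mem_of_closure g.2 v
  rw [Finset.sum_sub_distrib, Finset.sum_const, ← ha, Finset.card_univ, ← Nat.cast_smul_eq_nsmul ℚ] at hd
  have e : v = (Fintype.card ↥G : ℚ)⁻¹ • a - (Fintype.card ↥G : ℚ)⁻¹ • (a - (Fintype.card ↥G : ℚ) • v) := by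
    rw [smul_sub, smul_smul, inv_mul_cancel₀ hn, one_smul]; abel
  rw [e]
  refine sub_mem (Submodule.mem_sup_right (Submodule.smul_mem _ _ (mem_fixedFun.2 ⟨?_, ?_⟩)))
    (Submodule.mem_sup_left (Submodule.smul_mem _ _ hd))
  · exact hfix ⟨x, Subgroup.subset_closure (Or.inl rfl)⟩
  · exact hfix ⟨y, Subgroup.subset_closure (Or.inr rfl)⟩

/-- **Scott's inequality.** -/
theorem scott {x y z : Perm α} (h : x * y * z = 1) {d : ℕ} (hd : finrank ℚ (fixedFun x y) ≤ d) :
    2 * Fintype.card α ≤ 2 * d + finrank ℚ (moved x) + finrank ℚ (moved y) + finrank ℚ (moved z) := by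
  let A : (α → ℚ) →ₗ[ℚ] ↥(moved x) × ↥(moved y) × ↥(moved z) :=
    (((permLin z - LinearMap.id).comp ((permLin y).comp (permLin x))).codRestrict (moved z)
        (fun v => sub_mem_moved _ _) |> fun Cz =>
      (((permLin x - LinearMap.id)).codRestrict (moved x) (fun v => sub_mem_moved _ _)).prod
        ((((permLin y - LinearMap.id).comp (permLin x)).codRestrict (moved y) (fun v => sub_mem_moved _ _)).prod Cz))
  let B : ↥(moved x) × ↥(moved y) × ↥(moved z) →ₗ[ℚ] (α → ℚ) :=
    (moved x).subtype.coprod ((moved y).subtype.coprod (moved z).subtype)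
  have hBA : B.comp A = 0 := LinearMap.ext fun v => by
    show (permLin x v - v) + ((permLin y (permLin x v) - permLin x v) +
      (permLin z (permLin y (permLin x v)) - permLin y (permLin x v))) = 0
    rw [← permLin_mul, ← permLin_mul, h, permLin_one]
    abel
  have hkA : LinearMap.ker A ≤ fixedFun x y := fun v hv => by
    have hx' : permLin x v - v = 0 := congrArg (fun p => ((p.1 : ↥(moved x)) : α → ℚ)) (LinearMap.mem_ker.1 hv)
    have hy' : permLin y (permLin x v) - permLin x v = 0 :=
      congrArg (fun p => ((p.2.1 : ↥(moved y)) : α → ℚ)) (LinearMap.mem_ker.1 hv)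
    rw [sub_eq_zero] at hx' hy'
    rw [hx'] at hy'
    exact mem_fixedFun.2 ⟨hx', hy'⟩
  have h1 := LinearMap.finrank_range_add_finrank_ker A
  have h2 := LinearMap.finrank_range_add_finrank_ker B
  have h3 : finrank ℚ (LinearMap.range A) ≤ finrank ℚ (LinearMap.ker B) :=
    Submodule.finrank_mono (LinearMap.range_le_ker_iff.2 hBA)
  have h4 : finrank ℚ ↥(moved x ⊔ moved y) ≤ finrank ℚ (LinearMap.range B) := by
    refine Submodule.finrank_mono (sup_le (fun v hv => ⟨(⟨v, hv⟩, 0, 0), ?_⟩) fun v hv => ⟨(0, ⟨v, hv⟩, 0), ?_⟩) <;>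
      simp [B]
  have h5 := Submodule.finrank_add_le_finrank_add_finrank (moved x ⊔ moved y) (fixedFun x y)
  rw [sup_fixedFun, finrank_top, finrank_fintype_fun_eq_card] at h5
  have h6 := (Submodule.finrank_mono hkA).trans hd
  rw [finrank_fintype_fun_eq_card] at h1
  rw [finrank_prod, finrank_prod] at h2
  omega

/-- The commutator space is small when there are many fixed points. -/
theorem moved_bound {σ : Perm α} {p : ℕ} [Fact p.Prime] (hσ : orderOf σ = p) :
    p * finrank ℚ (moved σ) + (p - 1) * (Finset.univ.filter fun a => σ a = a).card ≤ (p - 1) * Fintype.card α := by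
  classical
  let H := Subgroup.zpowers σ
  let Ω := Quotient (MulAction.orbitRel ↥H α)
  let J : (Ω → ℚ) →ₗ[ℚ] (α → ℚ) := LinearMap.funLeft ℚ ℚ (Quotient.mk (MulAction.orbitRel ↥H α))
  have hJ : Function.Injective J := LinearMap.funLeft_injective_of_surjective _ _ _ Quotient.mk_surjective
  have hle : LinearMap.range J ≤ LinearMap.ker (permLin σ - LinearMap.id) := by
    rintro _ ⟨u, rfl⟩
    rw [LinearMap.mem_ker]
    funext a
    show u (Quotient.mk _ (σ a)) - u (Quotient.mk _ a) = 0
    rw [sub_eq_zero, Quotient.sound (show (MulAction.orbitRel ↥H α) (σ a) a from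
      ⟨⟨σ, Subgroup.mem_zpowers σ⟩, rfl⟩)]
  have h1 := LinearMap.finrank_range_add_finrank_ker (permLin σ - LinearMap.id)
  rw [finrank_fintype_fun_eq_card] at h1
  have h2 := Submodule.finrank_mono hle
  rw [LinearMap.finrank_range_of_inj hJ, finrank_fintype_fun_eq_card] at h2
  have h3 := MulAction.sum_card_fixedBy_eq_card_orbits_mul_card_group ↥H α
  have hH : Fintype.card ↥H = p := by rw [Fintype.card_zpowers, hσ]
  rw [hH] at h3
  have h4 : ∀ g : ↥H, g ≠ 1 → (Finset.univ.filter fun a => σ a = a).card ≤ Fintype.card (MulAction.fixedBy α g) := by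
    intro g _
    rw [← Fintype.card_subtype]
    refine Fintype.card_le_of_injective (fun a => ⟨a.1, ?_⟩) fun a b e => Subtype.ext (congrArg Subtype.val e :)
    obtain ⟨k, hk⟩ := Subgroup.mem_zpowers_iff.1 g.2
    show (g : Perm α) a.1 = a.1
    rw [← hk]
    exact Perm.zpow_apply_eq_self_of_apply_eq_self a.2 k
  have h5 : Fintype.card (MulAction.fixedBy α (1 : ↥H)) = Fintype.card α :=
    Fintype.card_congr (Equiv.subtypeUnivEquiv fun a => rfl)
  rw [← Finset.add_sum_erase _ _ (Finset.mem_univ (1 : ↥H)), h5] at h3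
  have h6 := Finset.card_nsmul_le_sum (Finset.univ.erase (1 : ↥H)) (fun g => Fintype.card (MulAction.fixedBy α g)) _
    fun g hg => h4 g (Finset.ne_of_mem_erase hg)
  rw [Finset.card_erase_of_mem (Finset.mem_univ _), Finset.card_univ, hH, smul_eq_mul] at h6
  have hp := (Fact.out : p.Prime).one_lt
  have hΩ : Fintype.card (Quotient (MulAction.orbitRel ↥H α)) = Fintype.card Ω := Fintype.card_congr (Equiv.refl _)
  rw [hΩ] at h3
  obtain ⟨q, rfl⟩ : ∃ q, p = q + 1 := ⟨p - 1, by omega⟩
  simp only [Nat.add_sub_cancel, moved] at h6 ⊢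
  have h7 := Nat.mul_le_mul_left (q + 1) h2
  have h8 := congrArg (fun t => (q + 1) * t) h1
  simp only [mul_add] at h8
  simp only [← Nat.card_eq_fintype_card] at h3 h6 h7 h8 ⊢
  have h9 : Nat.card α + q * (Finset.univ.filter fun a => σ a = a).card ≤ Nat.card Ω * (q + 1) := by
    rw [← h3]
    convert Nat.add_le_add_left h6 (Nat.card α) using 3 <;> ext <;> simp
  set nΩ := Nat.card Ω
  have hexp : (q + 1) * Nat.card α = q * Nat.card α + Nat.card α := by ring
  have h10 : (q + 1) * finrank ℚ ↥(LinearMap.range (permLin σ - LinearMap.id))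
      + q * (Finset.univ.filter fun a => σ a = a).card ≤ q * Nat.card α := by
    linarith [h7, h8, h9, hexp, mul_comm nΩ (q + 1)]
  convert h10 using 4
  all_goals first | rfl | (ext; simp)

end Cfsg.Agent.Lib.M23Gen
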