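import Cfsg.Agent.Lib.M23Gen.TripleData
import Cfsg.Agent.Lib.M24Geom.Conj
import Cfsg.Agent.Lib.MathieuOut.Gen

/-!
# The witnesses generate
-/

set_option autoImplicit false

namespace Cfsg.Agent.Lib.M23Gen

open Cfsg Equiv Cfsg.Agent.Lib.Compute Cfsg.Agent.Lib.M24Geom

/-- The check of one witness. -/
def entryOk (w : (ℕ × ℕ × ℕ) × (ℕ × ℕ × ℕ) × List (ℕ × ℕ × ℕ × Bool)) : Bool :=
  (decide (0 < w.1.1) && elemOk w.1.1 w.2.1.1 && (app w.2.1.1 23 == 23) && ((List.range 24).any fun i => app w.2.1.1 i != i)) &&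
  (decide (0 < w.1.2.1) && elemOk w.1.2.1 w.2.1.2.1 && (app w.2.1.2.1 23 == 23) && ((List.range 24).any fun i => app w.2.1.2.1 i != i)) &&
  (decide (0 < w.1.2.2) && elemOk w.1.2.2 w.2.1.2.2 && (app w.2.1.2.2 23 == 23) && ((List.range 24).any fun i => app w.2.1.2.2 i != i)) &&
  ((List.range 24).all fun i => app w.2.1.1 (app w.2.1.2.1 (app w.2.1.2.2 i)) == i) &&
  slpOk 24 [w.2.1.1, w.2.1.2.1] w.2.2 &&
  (slpFull [w.2.1.1, w.2.1.2.1] w.2.2).contains genA && (slpFull [w.2.1.1, w.2.1.2.1] w.2.2).contains genB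

theorem tripleWit_ok : tripleWit.all entryOk = true := by decide +kernel

theorem mCert_ok : chk 24 mCert = true ∧ presGens mCert = true ∧ certOrder mCert = 10200960 ∧
    (mCert0.gens.all fun g => app g.1 23 == 23) = true ∧
    slpOk 24 [genA, genB] stdSteps = true ∧ slpCovers [genA, genB] stdSteps mCert = true := by
  decide +kernel

theorem toGP_none {σ : Perm (Fin 24)} (h : σ 23 = 23) : toGP σ none = none := by
  rw [toGP_apply, show enc (none : GolayPt) = 23 by decide, h]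
  decide

theorem map_mCert : (grp 24 mCert).map toGP.toMonoidHom = Spor.M23 := by
  obtain ⟨hc, hp, ho, h23, -, -⟩ := mCert_ok
  refine Subgroup.eq_of_le_of_card_ge ?_ ?_
  · rw [Subgroup.map_le_iff_le_comap]
    show Subgroup.closure _ ≤ _
    rw [Subgroup.closure_le]
    rintro _ ⟨g, hg, rfl⟩
    have hgp := List.all_eq_true.1 hp g hg
    rw [Bool.and_eq_true] at hgp
    have hr := repr_toPerm_of_genOk hgp.1
    have h0 := List.all_eq_true.1 h23 g hg
    rw [beq_iff_eq] at h0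
    exact ⟨toGP_mem_M24_of_presOk hr hgp.2, toGP_none (Fin.ext ((hr 23).trans h0))⟩
  · rw [Subgroup.card_map_of_injective toGP.injective, card_grp hc, ho, MathieuOut.card_M23]

/-- An element of the witness list. -/
theorem elem_of_check {p P : ℕ} (hp : p.Prime) (h : elemOk p P = true) (h23 : app P 23 = 23)
    (hne : ((List.range 24).any fun i => app P i != i) = true) :
    ∃ hm : gperm P ∈ Spor.M23, orderOf (⟨gperm P, hm⟩ : ↥Spor.M23) = p := by
  obtain ⟨hv, hM, hpow⟩ := elemOk_spec hp.pos h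
  have hfix : gperm P none = none := toGP_none (Fin.ext ((hv.repr 23).trans h23))
  refine ⟨⟨hM, hfix⟩, ?_⟩
  haveI := Fact.mk hp
  refine orderOf_eq_prime (Subtype.ext hpow) fun e => ?_
  obtain ⟨i, hi, hne⟩ := List.any_eq_true.1 hne
  rw [List.mem_range] at hi
  rw [bne_iff_ne] at hne
  have e' : gperm P = 1 := congrArg Subtype.val e
  have := gperm_apply hv (enc.symm ⟨i, hi⟩)
  rw [e', Perm.one_apply, Equiv.apply_symm_apply] at this
  exact hne this.symm

theorem exists_triple {p q r : ℕ} (hp : p.Prime) (hq : q.Prime) (hr : r.Prime)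
    {s : List (ℕ × ℕ × ℕ × Bool)} {P Q R : ℕ} (h : ((p, q, r), (P, Q, R), s) ∈ tripleWit) :
    ∃ x y z : ↥Spor.M23, orderOf x = p ∧ orderOf y = q ∧ orderOf z = r ∧ x * y * z = 1 ∧
      Subgroup.closure ({x, y} : Set ↥Spor.M23) = ⊤ := by
  have hh := List.all_eq_true.1 tripleWit_ok _ h
  simp only [entryOk, Bool.and_eq_true, beq_iff_eq] at hh
  obtain ⟨⟨⟨⟨⟨⟨⟨⟨⟨-, hP⟩, hP23⟩, hPne⟩, ⟨⟨⟨-, hQ⟩, hQ23⟩, hQne⟩⟩, ⟨⟨⟨-, hR⟩, hR23⟩, hRne⟩⟩, hprod⟩, hslp⟩, hA⟩, hB⟩ := hh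
  obtain ⟨mP, oP⟩ := elem_of_check hp hP hP23 hPne
  obtain ⟨mQ, oQ⟩ := elem_of_check hq hQ hQ23 hQne
  obtain ⟨mR, oR⟩ := elem_of_check hr hR hR23 hRne
  have vP := (elemOk_spec hp.pos hP).1
  have vQ := (elemOk_spec hq.pos hQ).1
  have vR := (elemOk_spec hr.pos hR).1
  refine ⟨⟨_, mP⟩, ⟨_, mQ⟩, ⟨_, mR⟩, oP, oQ, oR, Subtype.ext ?_, ?_⟩
  · show gperm P * gperm Q * gperm R = 1
    have e : toPerm 24 P * toPerm 24 Q * toPerm 24 R = 1 :=
      ((vP.repr.mul vQ.repr).mul vR.repr).eq Repr.one fun i hi => by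
        have := List.all_eq_true.1 hprod i (List.mem_range.2 hi)
        simpa using this
    rw [gperm, gperm, gperm, ← map_mul, ← map_mul, e, map_one]
  · obtain ⟨-, -, -, -, hstd, hcov⟩ := mCert_ok
    have hb : ∀ b ∈ [P, Q], Valid 24 b := by simp [vP, vQ]
    have hspec := slp_spec hb hslp
    have hAB : ∀ b ∈ [genA, genB], Valid 24 b ∧ toPerm 24 b ∈ Subgroup.closure (toPerm 24 '' {c | c ∈ [P, Q]}) := by
      intro b hb'
      simp only [List.mem_cons, List.not_mem_nil, or_false] at hb'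
      rcases hb' with rfl | rfl
      · exact hspec _ (List.contains_iff_mem.1 hA)
      · exact hspec _ (List.contains_iff_mem.1 hB)
    have hle : grp 24 mCert ≤ Subgroup.closure (toPerm 24 '' {c | c ∈ [P, Q]}) :=
      (grp_le_closure (fun b hb' => (hAB b hb').1) hstd hcov).trans
        ((Subgroup.closure_le _).2 (by rintro _ ⟨b, hb', rfl⟩; exact (hAB b hb').2))
    have h2 := Subgroup.map_mono (f := toGP.toMonoidHom) hle
    rw [map_mCert, MonoidHom.map_closure] at h2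
    refine Subgroup.map_injective Spor.M23.subtype_injective ?_
    rw [MonoidHom.map_closure, Set.image_pair, ← MonoidHom.range_eq_map, Subgroup.range_subtype]
    refine le_antisymm ((Subgroup.closure_le _).2 ?_) (h2.trans (Subgroup.closure_mono ?_))
    · rintro _ (rfl | rfl)
      exacts [mP, mQ]
    · rintro _ ⟨_, ⟨b, hb', rfl⟩, rfl⟩
      simp only [Set.mem_ofPred_eq, List.mem_cons, List.not_mem_nil, or_false] at hb'
      rcases hb' with rfl | rfl
      exacts [Or.inl rfl, Or.inr rfl]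

theorem mem_primes {p : ℕ} (hp : p.Prime) (h : p ∣ 10200960) : p ∈ [2, 3, 5, 7, 11, 23] := by
  rw [show 10200960 = 2 ^ 7 * 3 ^ 2 * 5 * 7 * 11 * 23 by norm_num] at h
  have e : ∀ {a : ℕ}, a.Prime → p ∣ a → p = a := fun ha hd => (Nat.prime_dvd_prime_iff_eq hp ha).1 hd
  simp only [hp.dvd_mul] at h
  simp only [List.mem_cons, List.not_mem_nil, or_false]
  rcases h with ((((h | h) | h) | h) | h) | h
  · exact Or.inl (e Nat.prime_two (hp.dvd_of_dvd_pow h))
  · exact Or.inr (Or.inl (e Nat.prime_three (hp.dvd_of_dvd_pow h)))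
  · exact Or.inr (Or.inr (Or.inl (e (by norm_num) h)))
  · exact Or.inr (Or.inr (Or.inr (Or.inl (e (by norm_num) h))))
  · exact Or.inr (Or.inr (Or.inr (Or.inr (Or.inl (e (by norm_num) h)))))
  · exact Or.inr (Or.inr (Or.inr (Or.inr (Or.inr (e (by norm_num) h)))))

theorem listed : ∀ p ∈ [2, 3, 5, 7, 11, 23], ∀ q ∈ [2, 3, 5, 7, 11, 23], ∀ r ∈ [2, 3, 5, 7, 11, 23],
    p ≤ q → q ≤ r → ¬ (p = 2 ∧ q = 2) →
    ¬ ((p = 2 ∧ q = 3) ∨ (p = 2 ∧ q = 5 ∧ r = 5) ∨ (p = 2 ∧ q = 5 ∧ r = 7) ∨ (p = 3 ∧ q = 3 ∧ r ≤ 7)) →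
    (p, q, r) ∈ tripleWit.map Prod.fst := by
  decide +kernel

end Cfsg.Agent.Lib.M23Gen
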